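import Groth.Agent.SplitUniq26.Tangent
import Mathlib.RingTheory.FiniteType
import Mathlib.LinearAlgebra.Dimension.Finite

/-! Automorphisms of a split torus induced by rational points of an affine group have finite order. -/

set_option autoImplicit false
set_option linter.style.haveILetI false
set_option linter.unusedSectionVars false
universe u

open CategoryTheory MonoidalCategory CartesianMonoidalCategory MonObj GrpObj AlgebraicGeometry
open CoactBr
open scoped TensorProduct

noncomputable section

namespace Groth.Agent.SplitUniq26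

open HopfLib.SpPoints SGA3cLib

variable {k : Type u} [Field k] {G : Over (Spec (CommRingCat.of k))} [GrpObj G] {A : Type u} [CommRing A]
  [Algebra k A] (e : sp k A ≅ G)

/-- Translations of a function span a finite dimensional space. -/
theorem fg_translates (a : A) :
    ∃ W : Submodule k A, W.FG ∧ ∀ g : 𝟙_ (Over (Spec (CommRingCat.of k))) ⟶ G, comor e (rt g) a ∈ W := by
  let P : sp k (A ⊗[k] A) ⟶ G := pt Algebra.TensorProduct.includeLeft ≫ e.hom
  let Q : sp k (A ⊗[k] A) ⟶ G := pt Algebra.TensorProduct.includeRight ≫ e.hom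
  let Δ : A →ₐ[k] A ⊗[k] A := algOf ((P * Q) ≫ e.inv)
  have key : ∀ g, comor e (rt g) =
      (Algebra.TensorProduct.lift (AlgHom.id k A) ((Algebra.ofId k A).comp (ev e g)) fun _ _ => .all _ _).comp Δ := by
    intro g
    rw [← algOf_pt_comp, ← Category.assoc, MonObj.comp_mul, comor]
    congr 1
    rw [← Category.assoc, comp_rt]
    congr 2
    · simp only [P, ← Category.assoc, ← CoactBr.pt_comp, Algebra.TensorProduct.lift_comp_includeLeft, pt_id,
        Category.id_comp]
    · have h : (Algebra.TensorProduct.lift (AlgHom.id k A) ((Algebra.ofId k A).comp (ev e g)) fun _ _ => .all _ _).comp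
          Algebra.TensorProduct.includeRight = (Algebra.ofId k A).comp (ev e g) := AlgHom.ext fun x => by simp
      simp only [Q, ← Category.assoc]
      rw [← CoactBr.pt_comp, h, CoactBr.pt_comp, ev, pt_algOf, toUnit_comp]
      simp
  have hfin : ∀ z : A ⊗[k] A, ∃ W : Submodule k A, W.FG ∧ ∀ f : A →ₐ[k] k,
      Algebra.TensorProduct.lift (AlgHom.id k A) ((Algebra.ofId k A).comp f) (fun _ _ => .all _ _) z ∈ W := by
    intro z
    induction z using TensorProduct.induction_on with
    | zero => exact ⟨⊥, Submodule.fg_bot, fun f => by simp⟩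
    | tmul x y =>
      refine ⟨Submodule.span k {x}, Submodule.fg_span_singleton x, fun f => ?_⟩
      rw [Algebra.TensorProduct.lift_tmul]
      refine Submodule.mem_span_singleton.2 ⟨f y, ?_⟩
      simp [Algebra.smul_def, mul_comm]
    | add z z' hz hz' =>
      obtain ⟨W, hW, h⟩ := hz
      obtain ⟨W', hW', h'⟩ := hz'
      exact ⟨W ⊔ W', hW.sup hW', fun f => by rw [map_add]; exact Submodule.add_mem_sup (h f) (h' f)⟩
  obtain ⟨W, hW, h⟩ := hfin (Δ a)
  exact ⟨W, hW, fun g => by rw [key]; exact h _⟩

/-- A finite dimensional generating subspace stable under right translations. -/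
theorem exists_stable [Algebra.FiniteType k A] :
    ∃ V : Submodule k A, V.FG ∧ Algebra.adjoin k (V : Set A) = ⊤ ∧
      ∀ g : 𝟙_ (Over (Spec (CommRingCat.of k))) ⟶ G, ∀ v ∈ V, comor e (rt g) v ∈ V := by
  obtain ⟨s, hs⟩ := (inferInstance : Algebra.FiniteType k A).out
  choose W hW hgW using fg_translates e
  let O : Set A := { b | ∃ a ∈ s, ∃ g : 𝟙_ (Over (Spec (CommRingCat.of k))) ⟶ G, comor e (rt g) a = b }
  have hle : Submodule.span k O ≤ s.sup W := Submodule.span_le.2 fun b ⟨a, ha, g, hb⟩ =>
    hb ▸ Finset.le_sup (f := W) ha (hgW a g)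
  refine ⟨Submodule.span k O, ?_, ?_, fun g v hv => ?_⟩
  · haveI : Module.Finite k ↥(s.sup W) := Module.Finite.iff_fg.2 (Submodule.fg_finset_sup s W fun a _ => hW a)
    exact Module.Finite.iff_fg.1 (Submodule.finiteDimensional_of_le hle)
  · rw [eq_top_iff, ← hs]
    refine Algebra.adjoin_mono fun a ha => Submodule.subset_span ⟨a, ha, 1, ?_⟩
    rw [rt_one, comor_id]
    rfl
  · induction hv using Submodule.span_induction with
    | mem b hb =>
      obtain ⟨a, ha, g', rfl⟩ := hb
      exact Submodule.subset_span ⟨a, ha, g * g', by rw [← rt_rt, comor_comp]; rfl⟩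
    | zero => simp
    | add x y _ _ hx hy => rw [map_add]; exact add_mem hx hy
    | smul c x _ hx => rw [map_smul]; exact Submodule.smul_mem _ c hx

variable {M : Type} [AddCommGroup M] (j : Red.DS (Spec (CommRingCat.of k)) M ⟶ G)

/-- `N` normalises the torus and acts on its characters through `W`. -/
def ActsBy (N : 𝟙_ (Over (Spec (CommRingCat.of k))) ⟶ G) (W : M →+ M) : Prop :=
  ∀ t : 𝟙_ (Over (Spec (CommRingCat.of k))) ⟶ Red.DS (Spec (CommRingCat.of k)) M,
    ∃ t' : 𝟙_ (Over (Spec (CommRingCat.of k))) ⟶ Red.DS (Spec (CommRingCat.of k)) M,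
      N * (t ≫ j) = (t' ≫ j) * N ∧ ∀ m, χ t' m = χ t (W m)

include e in
/-- Automorphisms induced by rational points of the normaliser have finite order. -/
theorem exists_iterate_eq [IsAlgClosed k] [IsMonHom j] [Mono j] [Module.Free ℤ M] [Algebra.FiniteType k A]
    (N : 𝟙_ (Over (Spec (CommRingCat.of k))) ⟶ G) (W : M →+ M) (hW : Function.Injective W) (hN : ActsBy j N W) :
    ∃ n : ℕ, 0 < n ∧ ∀ m, W^[n] m = m := by
  classical
  obtain ⟨V, hVfg, hVgen, hVst⟩ := exists_stable e
  haveI : Module.Finite k V := Module.Finite.iff_fg.2 hVfg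
  let op : (𝟙_ (Over (Spec (CommRingCat.of k))) ⟶ G) → (V →ₗ[k] V) := fun g =>
    ((comor e (rt g)).toLinearMap.restrict (hVst g))
  have hop : ∀ g h v, op (g * h) v = op g (op h v) := fun g h v => Subtype.ext (by
    show comor e (rt (g * h)) (v : A) = comor e (rt g) (comor e (rt h) (v : A))
    rw [← rt_rt, comor_comp]
    rfl)
  have hop1 : ∀ v, op 1 v = v := fun v => Subtype.ext (by
    show comor e (rt 1) (v : A) = v
    rw [rt_one, comor_id]
    rfl)
  let Ω : Set M := { m | ∃ φ : Module.Dual k V, φ ≠ 0 ∧ ∀ t v, φ (op (t ≫ j) v) = χ t m * φ v }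
  have hΩfin : Ω.Finite := by
    by_contra hinf
    obtain ⟨F, hF, hFc⟩ := Set.Infinite.exists_subset_card_eq hinf (Module.finrank k (Module.Dual k V) + 1)
    choose φ hφ0 hφ using fun m : F => hF m.2
    have hli : LinearIndependent k φ := by
      rw [Fintype.linearIndependent_iff]
      intro c hc m
      have h := eq_zero_of_sum_eq_zero (k := k) (fun t => (op (t ≫ j)).dualMap) (fun (m : F) t => χ t (m : M))
        Finset.univ (fun x _ y _ hxy => Subtype.ext (χ_injective fun t => congrFun hxy t)) (fun m => c m • φ m)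
        (fun m _ t => LinearMap.ext fun v => by
          show c m * φ m (op (t ≫ j) v) = χ t m * (c m * φ m v)
          rw [hφ m t v]; ring) hc m (Finset.mem_univ _)
      exact (smul_eq_zero.1 h).resolve_right (hφ0 m)
    have h := hli.fintype_card_le_finrank
    simp [Fintype.card_coe, hFc] at h
  have hmaps : ∀ m ∈ Ω, W m ∈ Ω := by
    rintro m ⟨φ, hφ0, hφ⟩
    refine ⟨φ.comp (op N), fun h => hφ0 (LinearMap.ext fun v => ?_), fun t v => ?_⟩
    · have h2 := LinearMap.congr_fun h (op N⁻¹ v)
      rwa [LinearMap.comp_apply, ← hop, mul_inv_cancel, hop1] at h2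
    · obtain ⟨t', ht', hχ⟩ := hN t
      rw [LinearMap.comp_apply, LinearMap.comp_apply, ← hop, ht', hop, hφ, hχ]
  -- restriction to the torus
  obtain ⟨w, hw⟩ := exists_chr (k := k) (R := (MonoidAlgebra k (Multiplicative M))) (MonoidAlgebra.of k (Multiplicative M))
  let r : A →ₐ[k] (MonoidAlgebra k (Multiplicative M)) := algOf ((w ≫ j) ≫ e.inv)
  have hcoef : ∀ t (z : (MonoidAlgebra k (Multiplicative M))) m,
      (MonoidAlgebra.lift k (MonoidAlgebra k (Multiplicative M)) (Multiplicative M) ((chr (toUnit (sp k (MonoidAlgebra k (Multiplicative M))) ≫ t)) * MonoidAlgebra.of k (Multiplicative M)) z).coeff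
        (Multiplicative.ofAdd m) = χ t m * z.coeff (Multiplicative.ofAdd m) := by
    intro t z m
    induction z using MonoidAlgebra.induction_linear with
    | zero => simp
    | add x y hx hy => simp only [map_add, MonoidAlgebra.coeff_add, Finsupp.add_apply, hx, hy, mul_add]
    | single p c =>
      rw [MonoidAlgebra.lift_single, MonoidHom.mul_apply, ← ofAdd_toAdd p, chr_toUnit, MonoidAlgebra.of_apply,
        ← Algebra.smul_def, MonoidAlgebra.smul_single, MonoidAlgebra.smul_single, MonoidAlgebra.coeff_single,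
        MonoidAlgebra.coeff_single, Finsupp.single_apply, Finsupp.single_apply]
      by_cases h : p = Multiplicative.ofAdd m
      · rw [h]; simp [mul_comm]
      · simp [h]
  have hr : ∀ t, r.comp (comor e (rt (t ≫ j))) =
      (MonoidAlgebra.lift k (MonoidAlgebra k (Multiplicative M)) (Multiplicative M) ((chr (toUnit (sp k (MonoidAlgebra k (Multiplicative M))) ≫ t)) * MonoidAlgebra.of k (Multiplicative M))).comp r := by
    intro t
    rw [← algOf_comp, ← algOf_pt_comp, ← Category.assoc, ← Category.assoc]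
    refine congrArg (fun p => algOf (p ≫ e.inv)) ?_
    rw [comp_rt, ← Category.assoc, ← MonObj.mul_comp _ _ j]
    refine congrArg (· ≫ j) (chr_injective (MonoidHom.ext fun p => ?_))
    rw [chr_comp, hw, chr_mul, hw, MonoidHom.comp_apply, MonoidHom.coe_coe, MonoidAlgebra.lift_of,
      MonoidHom.mul_apply, mul_comm]
  have hsupp : ∀ v : V, ∀ p ∈ (r (v : A)).coeff.support, p.toAdd ∈ Ω := by
    intro v p hp
    let φ : Module.Dual k V :=
      { toFun := fun x => (r (x : A)).coeff p
        map_add' := fun x y => by simp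
        map_smul' := fun c x => by simp }
    refine ⟨φ, fun h => (Finsupp.mem_support_iff.1 hp) (LinearMap.congr_fun h v), fun t x => ?_⟩
    show (r (comor e (rt (t ≫ j)) (x : A))).coeff p = χ t p.toAdd * (r (x : A)).coeff p
    have h := DFunLike.congr_fun (hr t) (x : A)
    rw [AlgHom.comp_apply, AlgHom.comp_apply] at h
    rw [h]
    exact hcoef t _ p.toAdd
  have hgen : AddSubgroup.closure Ω = ⊤ := by
    let M₀ := AddSubgroup.closure Ω
    let π : Multiplicative M →* Multiplicative (M ⧸ M₀) := AddMonoidHom.toMultiplicative (QuotientAddGroup.mk' M₀)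
    let ψ₁ : (MonoidAlgebra k (Multiplicative M)) →ₐ[k] (MonoidAlgebra k (Multiplicative (M ⧸ M₀))) := MonoidAlgebra.lift k (MonoidAlgebra k (Multiplicative (M ⧸ M₀))) (Multiplicative M) ((MonoidAlgebra.of k _).comp π)
    let ψ₂ : (MonoidAlgebra k (Multiplicative M)) →ₐ[k] (MonoidAlgebra k (Multiplicative (M ⧸ M₀))) := MonoidAlgebra.lift k (MonoidAlgebra k (Multiplicative (M ⧸ M₀))) (Multiplicative M) 1
    have hagree : ψ₁.comp r = ψ₂.comp r := by
      refine AlgHom.ext_of_adjoin_eq_top hVgen fun v hv => ?_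
      simp only [AlgHom.comp_apply, ψ₁, ψ₂, MonoidAlgebra.lift_apply]
      refine Finsupp.sum_congr fun p hp => ?_
      congr 1
      have hm : π p = 1 := congrArg Multiplicative.ofAdd
        ((QuotientAddGroup.eq_zero_iff _).2 (AddSubgroup.subset_closure (hsupp ⟨v, hv⟩ p hp)))
      simp [hm, MonoidAlgebra.one_def]
    have hpts : pt ψ₁ ≫ w = pt ψ₂ ≫ w := by
      have h := congrArg pt hagree
      simp only [r, CoactBr.pt_comp, pt_algOf, ← Category.assoc, cancel_mono] at h
      exact h
    rw [eq_top_iff]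
    intro m _
    have h := DFunLike.congr_fun (congrArg chr hpts) (Multiplicative.ofAdd m)
    rw [chr_comp, chr_comp, hw] at h
    simp only [MonoidHom.comp_apply, MonoidHom.coe_coe, ψ₁, ψ₂, MonoidAlgebra.lift_of, MonoidHom.one_apply] at h
    rw [MonoidAlgebra.of_apply, MonoidAlgebra.one_def] at h
    have h2 := (MonoidAlgebra.single_left_inj (one_ne_zero (α := k))).mp h
    exact (QuotientAddGroup.eq_zero_iff m).1 (congrArg Multiplicative.toAdd h2)
  haveI : Finite Ω := hΩfin
  let σ : Ω → Ω := fun m => ⟨W m, hmaps m m.2⟩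
  have hσ : Function.Bijective σ :=
    Finite.injective_iff_bijective.1 fun a b h => Subtype.ext (hW (congrArg Subtype.val h))
  let τ : Equiv.Perm Ω := Equiv.ofBijective σ hσ
  refine ⟨orderOf τ, (isOfFinOrder_of_finite τ).orderOf_pos, fun m => ?_⟩
  have hiter : ∀ (n : ℕ) (x : Ω), (((τ ^ n) x : Ω) : M) = W^[n] x := by
    intro n
    induction n with
    | zero => intro x; rfl
    | succ n ih => intro x; rw [pow_succ', Equiv.Perm.mul_apply, Function.iterate_succ_apply', ← ih]; rfl
  have hm : m ∈ AddSubgroup.closure Ω := hgen ▸ AddSubgroup.mem_top m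
  induction hm using AddSubgroup.closure_induction with
  | mem x hx => rw [← hiter _ ⟨x, hx⟩, pow_orderOf_eq_one]; rfl
  | zero => exact iterate_map_zero W _
  | add x y _ _ hx hy => rw [iterate_map_add, hx, hy]
  | neg x _ hx => rw [iterate_map_neg, hx]

end Groth.Agent.SplitUniq26
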