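import Groth.Agent.SplitUniq26.Dim
import Groth.Agent.SplitUniq26.Finite
import Groth.Agent.SGA3cLib.DSHom
import Groth.Agent.TorusAb27.Basic

/-! Splittings over an algebraically closed field with conjugate tori have the same roots and coroots. -/

set_option autoImplicit false
set_option linter.style.haveILetI false
set_option linter.unusedSectionVars false
set_option maxHeartbeats 1000000
universe u

open CategoryTheory MonoidalCategory CartesianMonoidalCategory MonObj GrpObj AlgebraicGeometry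
open CoactBr

noncomputable section

namespace Groth.Agent.SplitUniq26

open HopfLib.SpPoints SGA3cLib

variable {k : Type u} [Field k] {G : Over (Spec (CommRingCat.of k))} [GrpObj G]

/-- The torus of a splitting, as an object. -/
def torusIso (D : Red.SplitRed G) : D.T ≅ Red.DS (Spec (CommRingCat.of k)) D.M :=
  (Grp.forget (Over (Spec (CommRingCat.of k)))).mapIso D.split

instance (D : Red.SplitRed G) : IsMonHom (torusIso D).inv := inferInstanceAs (IsMonHom D.split.inv.hom.hom)

/-- The inclusion of the split torus. -/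
def incl (D : Red.SplitRed G) : Red.DS (Spec (CommRingCat.of k)) D.M ⟶ G := (torusIso D).inv ≫ D.i

instance (D : Red.SplitRed G) : IsMonHom (incl D) := by
  haveI := D.maximalTorus.1
  exact inferInstanceAs (IsMonHom ((torusIso D).inv ≫ D.i))

instance (D : Red.SplitRed G) : Mono (incl D) := by
  haveI := D.maximalTorus.2.1
  exact inferInstanceAs (Mono ((torusIso D).inv ≫ D.i))

theorem isWeightHom_root (D : Red.SplitRed G) (a : D.idx) : IsWeightHom (incl D) (D.P.root a) (D.u a) := by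
  obtain ⟨hu, hcl, hpts⟩ := D.rootHom a
  haveI := hu
  haveI := hcl
  refine ⟨Over.mono_of_mono_left (D.u a), fun X => MonObj.one_comp _, fun t X x => ?_⟩
  obtain ⟨y, hy, hyv⟩ := hpts X (toUnit X ≫ t ≫ (torusIso D).inv) x
  refine ⟨y, ?_, ?_⟩
  · rw [← Category.assoc, comp_cj, hy]
    simp only [incl, Category.assoc]
  · rw [hyv]
    congr 2
    simp only [Category.assoc]
    rw [show D.split.hom.hom.hom = (torusIso D).hom from rfl, Iso.inv_hom_id_assoc]

theorem actsBy_refl (D : Red.SplitRed G) (a : D.idx) :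
    ∃ N, ActsBy (incl D) N (D.P.reflection a).toLinearMap.toAddMonoidHom := by
  obtain ⟨N, hN⟩ := D.refl a
  refine ⟨N, fun t => ⟨t ≫ Red.DSmap _ (D.P.reflection a).toLinearMap.toAddMonoidHom, ?_, fun m => χ_DSmap _ t m⟩⟩
  have h := hN _ (t ≫ (torusIso D).inv)
  rw [show D.split.hom.hom.hom = (torusIso D).hom from rfl, toUnit_unique (toUnit _) (𝟙 _), Category.id_comp] at h
  simp only [Category.assoc, Iso.inv_hom_id_assoc] at h
  rw [show (D.split.inv.hom.hom) = (torusIso D).inv from rfl] at h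
  rw [mul_inv_eq_iff_eq_mul] at h
  simpa [incl, Category.assoc] using h

theorem comp_cj_unit (g p : 𝟙_ (Over (Spec (CommRingCat.of k))) ⟶ G) : p ≫ cj g = g * p * g⁻¹ := by
  rw [comp_cj, toUnit_unique (toUnit _) (𝟙 _), Category.id_comp]

theorem actsBy_comp {M : Type} [AddCommGroup M] {j : Red.DS (Spec (CommRingCat.of k)) M ⟶ G}
    {N₁ N₂ : 𝟙_ (Over (Spec (CommRingCat.of k))) ⟶ G} {W₁ W₂ : M →+ M} (h₁ : ActsBy j N₁ W₁) (h₂ : ActsBy j N₂ W₂) :
    ActsBy j (N₁ * N₂) (W₂.comp W₁) := by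
  intro t
  obtain ⟨t', ht', hχ'⟩ := h₂ t
  obtain ⟨t'', ht'', hχ''⟩ := h₁ t'
  refine ⟨t'', ?_, fun m => (hχ'' m).trans (hχ' _)⟩
  rw [_root_.mul_assoc, ht', ← _root_.mul_assoc, ht'', _root_.mul_assoc]

/-- The isomorphism of character groups induced by a conjugation between two splittings. -/
structure Transfer (D D' : Red.SplitRed G) where
  g : 𝟙_ (Over (Spec (CommRingCat.of k))) ⟶ G
  equiv : D.M ≃ₗ[ℤ] D'.M
  conj : incl D' ≫ cj g = Red.DSmap _ (equiv : D.M →+ D'.M) ≫ incl D
  surj : ∀ t : 𝟙_ (Over (Spec (CommRingCat.of k))) ⟶ Red.DS (Spec (CommRingCat.of k)) D.M,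
    ∃ t' : 𝟙_ (Over (Spec (CommRingCat.of k))) ⟶ Red.DS (Spec (CommRingCat.of k)) D'.M,
      t' ≫ Red.DSmap _ (equiv : D.M →+ D'.M) = t

theorem range_subset [IsAlgClosed k] {U : (Spec (CommRingCat.of k)).Opens} {x : Spec (CommRingCat.of k)} (hx : x ∈ U)
    (W : Over (Spec (CommRingCat.of k))) : Set.range W.hom.base ⊆ (U : Set (Spec (CommRingCat.of k))) :=
  fun y _ => by
    have : y = x := Subsingleton.elim (α := PrimeSpectrum k) y x
    exact this ▸ hx

theorem nonempty_transfer [IsAlgClosed k] (D D' : Red.SplitRed G)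
    (g : 𝟙_ (Over (Spec (CommRingCat.of k))) ⟶ G)
    (hg : ∀ (X : Over (Spec (CommRingCat.of k))) (t : X ⟶ D'.T), ∃ t' : X ⟶ D.T,
      (toUnit X ≫ g) * (t ≫ D'.i) * (toUnit X ≫ g)⁻¹ = t' ≫ D.i) :
    Nonempty (Transfer D D') := by
  obtain ⟨hi, hmono, hT, -⟩ := D.maximalTorus
  obtain ⟨hi', hmono', -, hmax'⟩ := D'.maximalTorus
  haveI := hi; haveI := hmono; haveI := hi'; haveI := hmono'
  obtain ⟨τ, hτ⟩ := hg _ (𝟙 D'.T)
  rw [Category.id_comp, ← comp_cj] at hτ
  haveI : Mono τ := by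
    haveI : Mono (τ ≫ D.i) := by rw [← hτ]; infer_instance
    exact mono_of_mono τ D.i
  haveI hτhom : IsMonHom τ := BCPoints.isMonHom_of_mul _ fun X x y => by
    rw [← cancel_mono D.i, MonObj.mul_comp _ _ D.i, Category.assoc, Category.assoc, Category.assoc, ← hτ,
      MonObj.mul_comp _ _ (D'.i ≫ cj g)]
  haveI : IsIso τ := by
    obtain ⟨p⟩ : Nonempty (Spec (CommRingCat.of k)) := inferInstance
    haveI := MaxTorus26.isIso_geomPt p
    let F := Over.pullback (Red.geomPt p)
    haveI : F.IsRightAdjoint := (Over.mapPullbackAdj _).isRightAdjoint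
    let j' : Red.geomFibre p D.T ⟶ Red.geomFibre p G := F.map (D.i ≫ cj g⁻¹)
    haveI : IsMonHom j' := inferInstanceAs (IsMonHom ((Over.pullback _).map (D.i ≫ cj g⁻¹)))
    haveI : Mono j' := inferInstanceAs (Mono (F.map (D.i ≫ cj g⁻¹)))
    haveI : IsIso (F.map τ) := hmax' p _ j' (F.map τ) (TorusAb27.isTorus_bc _ _ hT) (by
      show F.map τ ≫ F.map (D.i ≫ cj g⁻¹) = F.map D'.i
      rw [← F.map_comp, ← Category.assoc, ← hτ, Category.assoc, cj_cj, inv_mul_cancel, cj_one, Category.comp_id])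
    let F' := Over.pullback (inv (Red.geomPt p))
    let β : F ⋙ F' ≅ 𝟭 (Over (Spec (CommRingCat.of k))) :=
      GrpBC.bcCongr (Red.geomPt p) (inv (Red.geomPt p)) (𝟙 _) (IsIso.inv_hom_id _) ≪≫ Over.pullbackId
    exact (NatIso.isIso_map_iff β τ).1 (Functor.map_isIso F' (F.map τ))
  haveI : IsMonHom (torusIso D).hom := inferInstanceAs (IsMonHom D.split.hom.hom.hom)
  let θ : Red.DS (Spec (CommRingCat.of k)) D'.M ⟶ Red.DS (Spec (CommRingCat.of k)) D.M :=
    (torusIso D').inv ≫ τ ≫ (torusIso D).hom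
  haveI : IsMonHom θ := inferInstanceAs (IsMonHom ((torusIso D').inv ≫ τ ≫ (torusIso D).hom))
  haveI : IsIso θ := inferInstanceAs (IsIso ((torusIso D').inv ≫ τ ≫ (torusIso D).hom))
  haveI : IsMonHom (asIso θ).hom := inferInstanceAs (IsMonHom θ)
  haveI : IsMonHom (inv θ) := inferInstanceAs (IsMonHom (asIso θ).inv)
  haveI : AddGroup.FG D.M := Module.Finite.iff_addGroup_fg.1 inferInstance
  haveI : AddGroup.FG D'.M := Module.Finite.iff_addGroup_fg.1 inferInstance
  obtain ⟨x⟩ : Nonempty (Spec (CommRingCat.of k)) := inferInstance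
  obtain ⟨V, f, hxV, hf⟩ := DSHom.exists_eq_DSmap θ x
  obtain ⟨V', h, hxV', hh⟩ := DSHom.exists_eq_DSmap (inv θ) x
  have hθ : θ = Red.DSmap _ f := by simpa using hf _ (range_subset hxV _) (𝟙 _)
  have hθ' : inv θ = Red.DSmap _ h := by simpa using hh _ (range_subset hxV' _) (𝟙 _)
  have h1 : ∀ m, h (f m) = m := fun m => χ_injective (k := k) fun t => by
    rw [← χ_DSmap h t, ← χ_DSmap f, Category.assoc, ← hθ, ← hθ', IsIso.inv_hom_id, Category.comp_id]
  have h2 : ∀ m, f (h m) = m := fun m => χ_injective (k := k) fun t => by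
    rw [← χ_DSmap f t, ← χ_DSmap h, Category.assoc, ← hθ, ← hθ', IsIso.hom_inv_id, Category.comp_id]
  let E : D.M ≃ₗ[ℤ] D'.M :=
    ({ toFun := f, invFun := h, left_inv := h1, right_inv := h2, map_add' := map_add f } :
      D.M ≃+ D'.M).toIntLinearEquiv
  have hE : (E : D.M →+ D'.M) = f := AddMonoidHom.ext fun m => rfl
  refine ⟨⟨g, E, ?_, fun t => ⟨t ≫ inv θ, ?_⟩⟩⟩
  · rw [hE, ← hθ, incl, Category.assoc, hτ]
    simp only [θ, incl, Category.assoc, Iso.hom_inv_id_assoc]
  · rw [hE, ← hθ, Category.assoc, IsIso.inv_hom_id, Category.comp_id]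

variable {D D' : Red.SplitRed G} (τ : Transfer D D')

theorem isWeightHom_transfer (a : D'.idx) :
    IsWeightHom (incl D) (τ.equiv.symm (D'.P.root a)) (D'.u a ≫ cj τ.g) := by
  have hu := isWeightHom_root D' a
  haveI := hu.mono
  refine ⟨mono_comp _ _, fun X => by rw [← Category.assoc, hu.one, MonObj.one_comp], fun t X x => ?_⟩
  obtain ⟨t', ht'⟩ := τ.surj t
  obtain ⟨y, hy, hyv⟩ := hu.conj t' X x
  refine ⟨y, ?_, ?_⟩
  · have h : t ≫ incl D = τ.g * (t' ≫ incl D') * τ.g⁻¹ := by
      rw [← comp_cj_unit, Category.assoc, τ.conj, ← Category.assoc, ht']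
    rw [← Category.assoc, hy, h]
    simp only [Category.assoc, cj_cj]
    congr 2
    congr 1
    group
  · rw [hyv, gmFn_chi, gmFn_chi]
    congr 1
    rw [← ht', ← Category.assoc, S5427.dsFn_DSmap]
    congr 1
    show Multiplicative.ofAdd (D'.P.root a) = Multiplicative.ofAdd (τ.equiv (τ.equiv.symm (D'.P.root a)))
    rw [LinearEquiv.apply_symm_apply]

theorem actsBy_transfer {N : 𝟙_ (Over (Spec (CommRingCat.of k))) ⟶ G} {W : D'.M →+ D'.M}
    (h : ActsBy (incl D') N W) :
    ActsBy (incl D) (τ.g * N * τ.g⁻¹)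
      (((τ.equiv.symm : D'.M →+ D.M).comp W).comp (τ.equiv : D.M →+ D'.M)) := by
  intro t
  obtain ⟨t', ht'⟩ := τ.surj t
  obtain ⟨t₁, ht₁, hχ⟩ := h t'
  have key : ∀ q : 𝟙_ (Over (Spec (CommRingCat.of k))) ⟶ Red.DS (Spec (CommRingCat.of k)) D'.M,
      (q ≫ Red.DSmap _ (τ.equiv : D.M →+ D'.M)) ≫ incl D = τ.g * (q ≫ incl D') * τ.g⁻¹ := fun q => by
    rw [← comp_cj_unit, Category.assoc, Category.assoc, τ.conj]
  refine ⟨t₁ ≫ Red.DSmap _ (τ.equiv : D.M →+ D'.M), ?_, fun m => ?_⟩
  · rw [← ht', key, key]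
    calc τ.g * N * τ.g⁻¹ * (τ.g * (t' ≫ incl D') * τ.g⁻¹) = τ.g * (N * (t' ≫ incl D')) * τ.g⁻¹ := by group
      _ = _ := by rw [ht₁]; group
  · rw [χ_DSmap, hχ, ← ht', χ_DSmap]
    congr 1
    exact (τ.equiv.apply_symm_apply _).symm

theorem coroot_eq_eval (D : Red.SplitRed G) (a : D.idx) (x : D.M) : D.P.coroot' a x = D.P.coroot a x := by
  show D.P.toLinearMap x (D.P.coroot a) = _
  rw [D.pairing_eq]
  rfl

theorem coroot_eq [IsAlgClosed k] {A : Type u} [CommRing A] [Algebra k A] [Algebra.FiniteType k A]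
    (e : sp k A ≅ G) (a : D.idx) (a' : D'.idx) (ha : τ.equiv.symm (D'.P.root a') = D.P.root a) :
    (D'.P.coroot a').comp (τ.equiv : D.M →ₗ[ℤ] D'.M) = D.P.coroot a := by
  obtain ⟨N, hN⟩ := actsBy_refl D a
  obtain ⟨N', hN'⟩ := actsBy_refl D' a'
  set W : D.M →+ D.M := ((D.P.reflection a).toLinearMap.toAddMonoidHom).comp
    (((τ.equiv.symm : D'.M →+ D.M).comp (D'.P.reflection a').toLinearMap.toAddMonoidHom).comp
      (τ.equiv : D.M →+ D'.M))
  have hW : ActsBy (incl D) (τ.g * N' * τ.g⁻¹ * N) W := actsBy_comp (actsBy_transfer τ hN') hN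
  have hinj : Function.Injective W :=
    (D.P.reflection a).injective.comp (τ.equiv.symm.injective.comp ((D'.P.reflection a').injective.comp τ.equiv.injective))
  obtain ⟨n, hn, hper⟩ := exists_iterate_eq e (incl D) _ W hinj hW
  let q : D.M →ₗ[ℤ] ℤ := (D'.P.coroot a').comp (τ.equiv : D.M →ₗ[ℤ] D'.M)
  let c : D.M →ₗ[ℤ] ℤ := D.P.coroot a
  have hc2 : c (D.P.root a) = 2 := by
    rw [← coroot_eq_eval]; exact D.P.root_coroot_two a
  have hea : τ.equiv (D.P.root a) = D'.P.root a' := by rw [← ha, LinearEquiv.apply_symm_apply]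
  have hq2 : q (D.P.root a) = 2 := by
    show D'.P.coroot a' (τ.equiv (D.P.root a)) = 2
    rw [hea, ← coroot_eq_eval]; exact D'.P.root_coroot_two a'
  have hWx : ∀ x, W x = x + (q x - c x) • D.P.root a := by
    intro x
    show D.P.reflection a (τ.equiv.symm (D'.P.reflection a' (τ.equiv x))) = _
    rw [RootPairing.reflection_apply, RootPairing.reflection_apply, coroot_eq_eval, coroot_eq_eval]
    show _ - c _ • _ = _
    rw [map_sub, map_smul, LinearEquiv.symm_apply_apply, ha, show D'.P.coroot a' (τ.equiv x) = q x from rfl,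
      map_sub, map_smul, hc2, smul_eq_mul]
    module
  refine LinearMap.ext fun x => ?_
  show q x = c x
  by_contra hne
  have hiter : ∀ m : ℕ, W^[m] x = x + ((m : ℤ) * (q x - c x)) • D.P.root a := by
    intro m
    induction m with
    | zero => simp
    | succ m ih =>
      rw [Function.iterate_succ_apply', ih, hWx, map_add, map_add, map_smul, map_smul, hq2, hc2, smul_eq_mul,
        Nat.cast_succ]
      module
  have h := hper x
  rw [hiter n, add_eq_left, smul_eq_zero] at h
  rcases h with h | h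
  · exact mul_ne_zero (Int.natCast_ne_zero.2 hn.ne') (sub_ne_zero.2 hne) h
  · exact D.P.ne_zero a h

/-- Splittings related by a conjugation have isomorphic root data. -/
theorem nonempty_equiv [IsAlgClosed k] [Smooth G.hom] [IsAffine G.left] (τ : Transfer D D') :
    Nonempty (RootPairing.Equiv D.P D'.P) := by
  classical
  obtain ⟨A, _, _, ⟨e⟩⟩ := Misc15.AffinePoints.exists_sp G
  haveI := smooth_alg e
  haveI := finite_cotangent e
  obtain ⟨p⟩ : Nonempty (Spec (CommRingCat.of k)) := inferInstance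
  have hd : ∀ D₀ : Red.SplitRed G, Module.finrank k (RingHom.ker (ev e 1)).Cotangent =
      Module.finrank ℤ D₀.M + Fintype.card D₀.idx := fun D₀ => by
    have h := D₀.dim_fibre p
    rw [topologicalKrullDim_geomFibre, ← finrank_cotangent e] at h
    exact_mod_cast h
  have hmem : ∀ a' : D'.idx, ∃ a, D.P.root a = τ.equiv.symm (D'.P.root a') := fun a' =>
    mem_range_of_weight e (incl D) D.P.root (fun a => D.P.ne_zero a) D.u (isWeightHom_root D) (hd D).le
      (fun h => D'.P.ne_zero a' (τ.equiv.symm.map_eq_zero_iff.1 h)) (isWeightHom_transfer τ a')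
  choose ε hε using hmem
  have hεinj : Function.Injective ε := fun a b h =>
    D'.P.root.injective (τ.equiv.symm.injective (by rw [← hε, ← hε, h]))
  have hcard : Fintype.card D'.idx = Fintype.card D.idx := by
    have h := (hd D).symm.trans (hd D')
    rw [τ.equiv.finrank_eq] at h
    omega
  let σ : D'.idx ≃ D.idx := Equiv.ofBijective ε ((Fintype.bijective_iff_injective_and_card ε).2 ⟨hεinj, hcard⟩)
  refine ⟨{
    weightMap := τ.equiv.toLinearMap
    coweightMap := τ.equiv.toLinearMap.dualMap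
    indexEquiv := σ.symm
    weight_coweight_transpose := ?_
    root_weightMap := ?_
    coroot_coweightMap := ?_
    bijective_weightMap := τ.equiv.bijective
    bijective_coweightMap := τ.equiv.dualMap.bijective }⟩
  · refine LinearMap.ext fun φ => LinearMap.ext fun x => ?_
    show D'.P.toLinearMap (τ.equiv x) φ = D.P.toLinearMap x (τ.equiv.toLinearMap.dualMap φ)
    rw [D.pairing_eq, D'.pairing_eq]
    rfl
  · funext a
    obtain ⟨a', rfl⟩ := σ.surjective a
    show τ.equiv (D.P.root (ε a')) = D'.P.root (σ.symm (σ a'))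
    rw [hε, LinearEquiv.apply_symm_apply, Equiv.symm_apply_apply]
  · funext a'
    show _ = D.P.coroot (σ.symm.symm a')
    exact coroot_eq τ e (ε a') a' (hε a').symm

end Groth.Agent.SplitUniq26
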