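import Groth.Agent.SplitUniq26.Tangent
import Groth.Agent.HopfLib.CotangentDim
import Groth.Agent.CAlgH.RegularSmooth
import Groth.Agent.AlgGrpLib.Equidim
import Groth.Agent.MaxTorus26.Basic
import Mathlib.RingTheory.Jacobson.Ring
import Mathlib.RingTheory.RegularLocalRing.Defs

/-! The cotangent space at the unit of a smooth affine group over a field has the dimension of the group. -/

set_option autoImplicit false
set_option linter.style.haveILetI false
set_option linter.unusedSectionVars false
universe u

open CategoryTheory CategoryTheory.Limits MonoidalCategory CartesianMonoidalCategory MonObj AlgebraicGeometry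
open CoactBr

noncomputable section

namespace Groth.Agent.SplitUniq26

variable {k : Type u} [Field k] {G : Over (Spec (CommRingCat.of k))} [GrpObj G] {A : Type u} [CommRing A] [Algebra k A]
  (e : sp k A ≅ G)

include e in
theorem smooth_alg [Smooth G.hom] : Algebra.Smooth k A := by
  have h : Smooth (sp k A).hom := by
    rw [← Over.w e.hom]
    haveI : IsIso e.hom.left := inferInstanceAs (IsIso ((Over.forget _).map e.hom))
    infer_instance
  have h' : Smooth (Spec.map (CommRingCat.ofHom (algebraMap k A))) := h
  rw [HasRingHomProperty.Spec_iff (P := @Smooth)] at h'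
  exact RingHom.smooth_algebraMap.mp h'

theorem finite_cotangent [Smooth G.hom] : Module.Finite k (RingHom.ker (ev e 1)).Cotangent := by
  haveI := smooth_alg e
  haveI : IsNoetherianRing A := Algebra.FiniteType.isNoetherianRing k A
  set I := RingHom.ker (ev e 1)
  haveI : Module.Finite A I := Module.Finite.iff_fg.2 (IsNoetherian.noetherian I)
  haveI : Module.Finite A I.Cotangent := Module.Finite.of_surjective I.toCotangent I.toCotangent_surjective
  obtain ⟨s, hs⟩ := Module.finite_def.1 (inferInstance : Module.Finite A I.Cotangent)
  refine ⟨⟨s, ?_⟩⟩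
  rw [eq_top_iff]
  intro x _
  have hx : x ∈ Submodule.span A (s : Set I.Cotangent) := hs ▸ Submodule.mem_top
  induction hx using Submodule.span_induction with
  | mem x hx => exact Submodule.subset_span hx
  | zero => exact zero_mem _
  | add x y _ _ hx hy => exact add_mem (hx trivial) (hy trivial)
  | smul a x _ hx =>
    have h1 : a • x = ev e 1 a • x := by
      rw [← sub_eq_zero, ← algebraMap_smul A (ev e 1 a) x, ← sub_smul]
      exact Ideal.Cotangent.smul_eq_zero_of_mem (by simp [I, RingHom.mem_ker]) x
    rw [h1]
    exact Submodule.smul_mem _ _ (hx trivial)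

theorem finrank_cotangent [Smooth G.hom] :
    ((Module.finrank k (RingHom.ker (ev e 1)).Cotangent : ℕ) : WithBot ℕ∞) = topologicalKrullDim G.left := by
  haveI := smooth_alg e
  haveI : IsNoetherianRing A := Algebra.FiniteType.isNoetherianRing k A
  haveI : IsRegularRing A := CAlgH.isRegularRing_of_smooth k A
  set I := RingHom.ker (ev e 1)
  haveI hImax : I.IsMaximal :=
    RingHom.ker_isMaximal_of_surjective (ev e 1) fun c => ⟨algebraMap k A c, (ev e 1).commutes c⟩
  haveI : IsRegularLocalRing (Localization.AtPrime I) := IsRegularRing.isRegularLocalRing_localization I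
  rw [← HopfLib.finrank_cotangentSpace_eq (ev e 1) I rfl,
    (IsRegularLocalRing.iff_finrank_cotangentSpace _).1 inferInstance]
  haveI : LocallyOfFiniteType G.hom := inferInstance
  let q : Spec (CommRingCat.of A) ⟶ G.left := e.hom.left
  haveI : IsIso q := inferInstanceAs (IsIso ((Over.forget _).map e.hom))
  let y : PrimeSpectrum A := ⟨I, hImax.isPrime⟩
  let x : ↥(Spec (CommRingCat.of A)) := y
  have hclosed : IsClosed ({q.base x} : Set G.left) := by
    have h1 : IsClosed ({x} : Set ↥(Spec (CommRingCat.of A))) := (PrimeSpectrum.isClosed_singleton_iff_isMaximal y).2 hImax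
    have h2 := q.homeomorph.isClosedMap _ h1
    show IsClosed ({q x} : Set G.left)
    rw [← Set.image_singleton]
    exact h2
  haveI : IsOpenImmersion q := inferInstance
  haveI : IsIso (q.stalkMap x) := inferInstance
  rw [← AlgGrpLib.ringKrullDim_stalk_of_isClosed G (q.base x) hclosed,
    ringKrullDim_eq_of_ringEquiv ((asIso (q.stalkMap x)).commRingCatIsoToRingEquiv)]
  exact (ringKrullDim_eq_of_ringEquiv (Spec.stalkIso (CommRingCat.of A) x).commRingCatIsoToRingEquiv).symm

theorem topologicalKrullDim_geomFibre [IsAlgClosed k] (p : Spec (CommRingCat.of k)) :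
    topologicalKrullDim ↥(Red.geomFibre p G).left = topologicalKrullDim G.left := by
  haveI := MaxTorus26.isIso_geomPt p
  let q : (Red.geomFibre p G).left ⟶ G.left := pullback.fst G.hom (Red.geomPt p)
  haveI : IsIso q := inferInstance
  exact IsHomeomorph.topologicalKrullDim_eq _ q.homeomorph.isHomeomorph

end Groth.Agent.SplitUniq26
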