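import Groth.Agent.HopfLib.SpPoints
import Groth.Agent.SGA3cLib.DSChar
import Groth.Agent.SGA3cLib.BCPoints
import Groth.Agent.S5427
import Groth.Prelude.Def_Red2
import Mathlib.Algebra.TrivSqZeroExt.Basic

/-! Rational points, conjugation and points of diagonalisable groups with values in algebras over a field. -/

set_option autoImplicit false
set_option linter.style.haveILetI false
universe u

open CategoryTheory MonoidalCategory CartesianMonoidalCategory MonObj GrpObj AlgebraicGeometry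
open CoactBr

noncomputable section

namespace Groth.Agent.SplitUniq26

open HopfLib.SpPoints SGA3cLib

variable {k : Type u} [Field k]

section Val

variable {R R' : Type u} [CommRing R] [Algebra k R] [CommRing R'] [Algebra k R']

/-- Global functions on `Spec R`, as elements of `R`. -/
def val : Γ((sp k R).left, ⊤) ≃+* R := (Scheme.ΓSpecIso (CommRingCat.of R)).commRingCatIsoToRingEquiv

theorem val_comp (φ : R →ₐ[k] R') (x : Γ((sp k R).left, ⊤)) : val ((pt φ).left.appTop x) = φ (val x) :=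
  ConcreteCategory.congr_hom (Scheme.ΓSpecIso_naturality (CommRingCat.ofHom φ.toRingHom)) x

variable {M : Type} [AddCommGroup M]

/-- The character of an `R`-point of `D(M)`. -/
def chr (p : sp k R ⟶ Red.DS (Spec (CommRingCat.of k)) M) : Multiplicative M →* R :=
  (val (k := k) (R := R)).toMonoidHom.comp (dsFn p)

theorem chr_apply (p : sp k R ⟶ Red.DS (Spec (CommRingCat.of k)) M) (m : Multiplicative M) :
    chr p m = val (dsFn p m) := rfl

theorem chr_comp (φ : R →ₐ[k] R') (p : sp k R ⟶ Red.DS (Spec (CommRingCat.of k)) M) :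
    chr (pt φ ≫ p) = (φ : R →* R').comp (chr p) :=
  MonoidHom.ext fun m => by
    rw [chr_apply, dsFn_comp, val_comp]
    rfl

theorem chr_injective {p p' : sp k R ⟶ Red.DS (Spec (CommRingCat.of k)) M} (h : chr p = chr p') : p = p' :=
  dsFn_injective (MonoidHom.ext fun m => (val (k := k) (R := R)).injective (DFunLike.congr_fun h m))

theorem exists_chr (φ : Multiplicative M →* R) :
    ∃ p : sp k R ⟶ Red.DS (Spec (CommRingCat.of k)) M, chr p = φ := by
  obtain ⟨p, hp⟩ := exists_dsPt (W := sp k R) ((val (k := k) (R := R)).symm.toMonoidHom.comp φ)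
  refine ⟨p, MonoidHom.ext fun m => ?_⟩
  rw [chr_apply, hp]
  exact (val (k := k) (R := R)).apply_symm_apply _

theorem chr_mul (p p' : sp k R ⟶ Red.DS (Spec (CommRingCat.of k)) M) (m : Multiplicative M) :
    chr (p * p') m = chr p m * chr p' m := by
  rw [chr_apply, dsFn_mul, map_mul]
  rfl

theorem chr_one (m : Multiplicative M) : chr (1 : sp k R ⟶ Red.DS (Spec (CommRingCat.of k)) M) m = 1 := by
  rw [chr_apply, dsFn_one, map_one]

theorem gmFn_chi {W : Over (Spec (CommRingCat.of k))} (p : W ⟶ Red.DS (Spec (CommRingCat.of k)) M) (m : M) :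
    Red.gmFn (p ≫ Red.chi (Spec (CommRingCat.of k)) m) = dsFn p (Multiplicative.ofAdd m) := by
  rw [gmFn_eq_fn]
  show dsFn (p ≫ Red.DSmap _ (zmultiplesHom M m)) (Multiplicative.ofAdd (1 : ℤ)) = _
  rw [S5427.dsFn_DSmap]
  congr 1
  show Multiplicative.ofAdd (zmultiplesHom M m 1) = _
  rw [zmultiplesHom_apply, one_zsmul]

/-- The value of a character at a rational point. -/
def χ (t : 𝟙_ (Over (Spec (CommRingCat.of k))) ⟶ Red.DS (Spec (CommRingCat.of k)) M) (m : M) : k :=
  chr (unitIso.hom ≫ t) (Multiplicative.ofAdd m)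

theorem toUnit_comp {X : Over (Spec (CommRingCat.of k))} (t : 𝟙_ (Over (Spec (CommRingCat.of k))) ⟶ X) :
    toUnit (sp k R) ≫ t = pt (Algebra.ofId k R) ≫ unitIso.hom ≫ t := by
  rw [toUnit_eq, Category.assoc]

theorem chr_toUnit (t : 𝟙_ (Over (Spec (CommRingCat.of k))) ⟶ Red.DS (Spec (CommRingCat.of k)) M) (m : M) :
    chr (toUnit (sp k R) ≫ t) (Multiplicative.ofAdd m) = algebraMap k R (χ t m) := by
  rw [toUnit_comp, chr_comp]
  rfl

theorem exists_χ (φ : Multiplicative M →* k) :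
    ∃ t : 𝟙_ (Over (Spec (CommRingCat.of k))) ⟶ Red.DS (Spec (CommRingCat.of k)) M,
      ∀ m, χ t m = φ (Multiplicative.ofAdd m) := by
  obtain ⟨p, hp⟩ := exists_chr (k := k) (R := k) φ
  exact ⟨unitIso.inv ≫ p, fun m => by rw [χ, ← Category.assoc, Iso.hom_inv_id, Category.id_comp, hp]⟩

theorem χ_DSmap {N : Type} [AddCommGroup N] (f : N →+ M)
    (t : 𝟙_ (Over (Spec (CommRingCat.of k))) ⟶ Red.DS (Spec (CommRingCat.of k)) M) (n : N) :
    χ (t ≫ Red.DSmap _ f) n = χ t (f n) := by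
  rw [χ, χ, chr_apply, chr_apply, ← Category.assoc, S5427.dsFn_DSmap]
  rfl

/-- Rational points separate characters. -/
theorem χ_injective [IsAlgClosed k] [Module.Free ℤ M] {m m' : M}
    (h : ∀ t : 𝟙_ (Over (Spec (CommRingCat.of k))) ⟶ Red.DS (Spec (CommRingCat.of k)) M, χ t m = χ t m') :
    m = m' := by
  by_contra hne
  let b := Module.Free.chooseBasis ℤ M
  obtain ⟨j, hj⟩ : ∃ j, b.coord j (m - m') ≠ 0 := by
    by_contra hall
    exact hne (sub_eq_zero.1 (b.forall_coord_eq_zero_iff.1 fun j => not_not.1 fun hj => hall ⟨j, hj⟩))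
  set n : ℤ := b.coord j (m - m')
  obtain ⟨a, ha0, ha⟩ : ∃ a : k, a ≠ 0 ∧ a ^ n.natAbs ≠ 1 := by
    by_contra hall
    simp only [not_exists, not_and, not_not] at hall
    have hp : (Polynomial.X ^ n.natAbs - Polynomial.C (1 : k)) ≠ 0 :=
      Polynomial.X_pow_sub_C_ne_zero (Int.natAbs_pos.2 hj) 1
    refine Set.infinite_univ (α := k) ((((Polynomial.finite_setOf_isRoot hp).union (Set.finite_singleton 0))).subset ?_)
    intro x _
    by_cases hx : x = 0
    · exact Or.inr hx
    · exact Or.inl (by simp [Polynomial.IsRoot, hall x hx])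
  let φ : Multiplicative M →* k := (Units.coeHom k).comp
    ((zpowersHom kˣ (Units.mk0 a ha0)).comp (AddMonoidHom.toMultiplicative (b.coord j).toAddMonoidHom))
  obtain ⟨t, ht⟩ := exists_χ φ
  have h2 := h t
  rw [ht, ht] at h2
  have h2' : a ^ (b.coord j m) = a ^ (b.coord j m') := by simpa [φ] using h2
  have h3 : a ^ n = 1 := by
    rw [show n = b.coord j m - b.coord j m' from map_sub _ _ _, zpow_sub₀ ha0, h2', div_self (zpow_ne_zero _ ha0)]
  refine ha ?_
  rcases Int.natAbs_eq n with he | he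
  · rw [he] at h3; exact_mod_cast h3
  · rw [he, zpow_neg, inv_eq_one] at h3; exact_mod_cast h3

end Val

section Conj

variable {S : Scheme.{u}} {G : Over S} [GrpObj G]

/-- Conjugation by a rational point. -/
def cj (g : 𝟙_ (Over S) ⟶ G) : G ⟶ G := (toUnit G ≫ g) * 𝟙 G * (toUnit G ≫ g)⁻¹

theorem comp_cj {X : Over S} (g : 𝟙_ (Over S) ⟶ G) (p : X ⟶ G) :
    p ≫ cj g = (toUnit X ≫ g) * p * (toUnit X ≫ g)⁻¹ := by
  simp only [cj, MonObj.comp_mul, GrpObj.comp_inv, Category.comp_id, ← Category.assoc,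
    toUnit_unique (p ≫ toUnit G) (toUnit X)]

theorem cj_cj (g h : 𝟙_ (Over S) ⟶ G) : cj g ≫ cj h = cj (h * g) := by
  rw [comp_cj, cj, cj, MonObj.comp_mul]
  group

theorem cj_one : cj (1 : 𝟙_ (Over S) ⟶ G) = 𝟙 G := by
  simp [cj, MonObj.comp_one]

instance isMonHom_cj (g : 𝟙_ (Over S) ⟶ G) : IsMonHom (cj g) :=
  BCPoints.isMonHom_of_mul _ fun X x y => by
    rw [comp_cj, comp_cj, comp_cj]
    group

instance isIso_cj (g : 𝟙_ (Over S) ⟶ G) : IsIso (cj g) :=
  ⟨cj g⁻¹, by rw [cj_cj, inv_mul_cancel, cj_one], by rw [cj_cj, mul_inv_cancel, cj_one]⟩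

/-- Right translation by a rational point. -/
def rt (g : 𝟙_ (Over S) ⟶ G) : G ⟶ G := 𝟙 G * (toUnit G ≫ g)

theorem comp_rt {X : Over S} (g : 𝟙_ (Over S) ⟶ G) (p : X ⟶ G) : p ≫ rt g = p * (toUnit X ≫ g) := by
  simp only [rt, MonObj.comp_mul, Category.comp_id, ← Category.assoc, toUnit_unique (p ≫ toUnit G) (toUnit X)]

theorem rt_rt (g h : 𝟙_ (Over S) ⟶ G) : rt g ≫ rt h = rt (g * h) := by
  rw [comp_rt, rt, rt, MonObj.comp_mul, _root_.mul_assoc]

theorem rt_one : rt (1 : 𝟙_ (Over S) ⟶ G) = 𝟙 G := by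
  simp [rt, MonObj.comp_one]

end Conj

end Groth.Agent.SplitUniq26
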