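import Groth.Agent.SplitUniq26.Points
import Mathlib.RingTheory.Ideal.Cotangent
import Mathlib.LinearAlgebra.Dual.Lemmas

/-! Tangent vectors at the identity and the weights of a split torus on them. -/

set_option autoImplicit false
set_option linter.style.haveILetI false
set_option linter.unusedSectionVars false
set_option maxHeartbeats 1000000
universe u

open CategoryTheory MonoidalCategory CartesianMonoidalCategory MonObj GrpObj AlgebraicGeometry
open CoactBr TrivSqZeroExt

noncomputable section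

namespace Groth.Agent.SplitUniq26

open HopfLib.SpPoints SGA3cLib

variable {k : Type u} [Field k]

/-- Eigenvectors of a family of operators with distinct eigenvalue functions are independent. -/
theorem eq_zero_of_sum_eq_zero {J τ : Type*} {V : Type*} [AddCommGroup V] [Module k V]
    (f : τ → V →ₗ[k] V) (c : J → τ → k) (s : Finset J) :
    Set.InjOn c s → ∀ v : J → V, (∀ i ∈ s, ∀ t, f t (v i) = c i t • v i) →
      ∑ i ∈ s, v i = 0 → ∀ i ∈ s, v i = 0 := by
  classical
  induction s using Finset.induction with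
  | empty => simp
  | @insert a s ha ih =>
    intro hc v hv hsum
    rw [Finset.sum_insert ha] at hsum
    have h0 : ∀ i ∈ s, v i = 0 := by
      intro i hi
      obtain ⟨t, ht⟩ : ∃ t, c i t ≠ c a t := Function.ne_iff.1 fun h => ha
        (hc (Finset.mem_insert_of_mem hi) (Finset.mem_insert_self a s) h ▸ hi)
      have h1 : ∑ i ∈ s, (c i t - c a t) • v i = 0 := by
        have h2 : f t (v a + ∑ i ∈ s, v i) - c a t • (v a + ∑ i ∈ s, v i) = 0 := by
          rw [hsum, map_zero, smul_zero, sub_zero]
        rw [map_add, map_sum, hv a (Finset.mem_insert_self a s) t, smul_add, Finset.smul_sum,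
          add_sub_add_left_eq_sub, ← Finset.sum_sub_distrib] at h2
        rw [← h2]
        exact Finset.sum_congr rfl fun i hi => by rw [hv i (Finset.mem_insert_of_mem hi) t, sub_smul]
      have h3 := ih (hc.mono (fun x hx => Finset.mem_insert_of_mem hx)) (fun i => (c i t - c a t) • v i)
        (fun i hi t' => by rw [map_smul, hv i (Finset.mem_insert_of_mem hi) t', smul_comm]) h1 i hi
      exact (smul_eq_zero.1 h3).resolve_left (sub_ne_zero.2 ht)
    rw [Finset.sum_eq_zero h0, add_zero] at hsum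
    intro i hi
    rcases Finset.mem_insert.1 hi with rfl | hi
    · exact hsum
    · exact h0 i hi

variable {G : Over (Spec (CommRingCat.of k))} [GrpObj G] {A : Type u} [CommRing A] [Algebra k A]
  (e : sp k A ≅ G)

/-- Evaluation at a rational point. -/
def ev (g : 𝟙_ (Over (Spec (CommRingCat.of k))) ⟶ G) : A →ₐ[k] k := algOf (unitIso.hom ≫ g ≫ e.inv)

/-- The comorphism of an endomorphism. -/
def comor (F : G ⟶ G) : A →ₐ[k] A := algOf (e.hom ≫ F ≫ e.inv)

theorem algOf_comp {R : Type u} [CommRing R] [Algebra k R] (p : sp k R ⟶ G) (F : G ⟶ G) :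
    algOf ((p ≫ F) ≫ e.inv) = (algOf (p ≫ e.inv)).comp (comor e F) := by
  rw [comor, ← algOf_pt_comp, pt_algOf]
  simp

theorem comor_comp (F F' : G ⟶ G) : comor e (F ≫ F') = (comor e F).comp (comor e F') := by
  have h := algOf_comp e (e.hom ≫ F) F'
  rw [comor, comor]
  simpa [comor] using h

theorem comor_id : comor e (𝟙 G) = AlgHom.id k A := by
  rw [comor]
  simp only [Category.id_comp, Iso.hom_inv_id]
  rw [← pt_id, algOf_pt]

variable {N : Type u} [AddCommGroup N] [Module k N] [Module kᵐᵒᵖ N] [IsCentralScalar k N]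

/-- A point with values in a square zero extension lying over the unit. -/
def IsTan (p : sp k (TrivSqZeroExt k N) ⟶ G) : Prop := pt (fstHom k k N) ≫ p = 1

/-- The tangent vectors of such a point. -/
def tan (p : sp k (TrivSqZeroExt k N) ⟶ G) : A →ₗ[k] N :=
  ((sndHom k N).restrictScalars k).comp (algOf (p ≫ e.inv)).toLinearMap

theorem tan_apply (p : sp k (TrivSqZeroExt k N) ⟶ G) (a : A) : tan e p a = (algOf (p ≫ e.inv) a).snd := rfl

theorem tan_comp (p : sp k (TrivSqZeroExt k N) ⟶ G) (F : G ⟶ G) :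
    tan e (p ≫ F) = (tan e p).comp (comor e F).toLinearMap :=
  LinearMap.ext fun a => by rw [LinearMap.comp_apply, tan_apply, tan_apply, algOf_comp]; rfl

theorem tan_map {N' : Type u} [AddCommGroup N'] [Module k N'] [Module kᵐᵒᵖ N'] [IsCentralScalar k N']
    (L : N →ₗ[k] N') (p : sp k (TrivSqZeroExt k N) ⟶ G) :
    tan e (pt (TrivSqZeroExt.map L) ≫ p) = L.comp (tan e p) :=
  LinearMap.ext fun a => by
    rw [LinearMap.comp_apply, tan_apply, tan_apply, Category.assoc, algOf_pt_comp, AlgHom.comp_apply, snd_map]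

theorem fst_eq {p : sp k (TrivSqZeroExt k N) ⟶ G} (hp : IsTan p) :
    (fstHom k k N).comp (algOf (p ≫ e.inv)) = ev e 1 := by
  rw [ev, ← algOf_pt_comp, ← Category.assoc, show pt (fstHom k k N) ≫ p = 1 from hp, ← Category.assoc,
    MonObj.comp_one]

/-- The point derivations at the unit. -/
def IsPtDer (δ : A →ₗ[k] k) : Prop := ∀ a b, δ (a * b) = ev e 1 a * δ b + ev e 1 b * δ a

theorem isPtDer_tan {p : sp k (TrivSqZeroExt k k) ⟶ G} (hp : IsTan p) : IsPtDer e (tan e p) := by
  intro a b
  have h := fun a => DFunLike.congr_fun (fst_eq e hp) a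
  simp only [tan_apply, map_mul, snd_mul, ← h, AlgHom.comp_apply, fstHom_apply, smul_eq_mul]
  simp [mul_comm]

theorem eq_one_of_tan_eq_zero {p : sp k (TrivSqZeroExt k N) ⟶ G} (hp : IsTan p) (h : tan e p = 0) : p = 1 := by
  have h1 : algOf (p ≫ e.inv) = (inlAlgHom k k N).comp (ev e 1) := by
    refine AlgHom.ext fun a => TrivSqZeroExt.ext ?_ ?_
    · rw [AlgHom.comp_apply, ← fst_eq e hp]
      simp
    · rw [← tan_apply, h]
      simp
  have h2 : p ≫ e.inv = (1 : sp k (TrivSqZeroExt k N) ⟶ G) ≫ e.inv := by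
    rw [← pt_algOf (p ≫ e.inv), h1, CoactBr.pt_comp, ev, pt_algOf, ← Category.assoc, ← Category.assoc,
      Category.assoc (pt (inlAlgHom k k N)), MonObj.comp_one, MonObj.comp_one]
  exact (cancel_mono e.inv).1 h2

/-- Independent point derivations are no more than the dimension of the cotangent space. -/
theorem card_le_finrank {J : Type*} [Fintype J] [Module.Finite k (RingHom.ker (ev e 1)).Cotangent]
    (δ : J → Module.Dual k A) (hδ : ∀ i, IsPtDer e (δ i)) (hli : LinearIndependent k δ) :
    Fintype.card J ≤ Module.finrank k (RingHom.ker (ev e 1)).Cotangent := by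
  set I := RingHom.ker (ev e 1)
  have hmem : ∀ a : A, a - algebraMap k A (ev e 1 a) ∈ I := fun a => by
    simp [I, RingHom.mem_ker]
  let r : A →ₗ[k] I.restrictScalars k :=
    { toFun := fun a => ⟨a - algebraMap k A (ev e 1 a), hmem a⟩
      map_add' := fun a b => Subtype.ext (by simp only [map_add, Submodule.coe_add]; abel)
      map_smul' := fun c a => Subtype.ext (by
        simp [Algebra.smul_def, map_mul, mul_sub]) }
  let π : A →ₗ[k] I.Cotangent := (I.toCotangent.restrictScalars k).comp r
  have hker : ∀ i, δ i ∈ LinearMap.range π.dualMap := fun i => by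
    rw [LinearMap.range_dualMap_eq_dualAnnihilator_ker, Submodule.mem_dualAnnihilator]
    intro a ha
    have h1 : δ i 1 = 0 := by
      have h := hδ i 1 1
      rw [_root_.one_mul, map_one (ev e 1), _root_.one_mul] at h
      exact left_eq_add.mp h
    have ha' : a - algebraMap k A (ev e 1 a) ∈ I ^ 2 :=
      (Ideal.toCotangent_eq_zero I ⟨_, hmem a⟩).1 (LinearMap.mem_ker.1 ha)
    have h0 : ∀ x ∈ I ^ 2, δ i x = 0 := fun x hx => by
      rw [sq] at hx
      refine Submodule.mul_induction_on hx (fun a ha b hb => ?_) (fun a b ha hb => by rw [map_add, ha, hb, add_zero])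
      rw [hδ i, show ev e 1 a = 0 from ha, show ev e 1 b = 0 from hb, zero_mul, zero_mul, add_zero]
    have h2 := h0 _ ha'
    rwa [map_sub, Algebra.algebraMap_eq_smul_one, map_smul, h1, smul_zero, sub_zero] at h2
  have hle : Submodule.span k (Set.range δ) ≤ LinearMap.range π.dualMap :=
    Submodule.span_le.2 (Set.range_subset_iff.2 hker)
  rw [← finrank_span_eq_card hli]
  exact (Submodule.finrank_mono hle).trans ((LinearMap.finrank_range_le _).trans Subspace.dual_finrank_eq.le)

variable {M : Type} [AddCommGroup M] (j : Red.DS (Spec (CommRingCat.of k)) M ⟶ G)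

/-- `u` is an injective curve through the unit on which the torus acts through `m`. -/
structure IsWeightHom (m : M) (u : Red.Ga (Spec (CommRingCat.of k)) ⟶ G) : Prop where
  mono : Mono u
  one : ∀ X : Over (Spec (CommRingCat.of k)), (1 : X ⟶ Red.Ga (Spec (CommRingCat.of k))) ≫ u = 1
  conj : ∀ (t : 𝟙_ (Over (Spec (CommRingCat.of k))) ⟶ Red.DS (Spec (CommRingCat.of k)) M)
    (X : Over (Spec (CommRingCat.of k))) (x : X ⟶ Red.Ga (Spec (CommRingCat.of k))),
    ∃ y : X ⟶ Red.Ga (Spec (CommRingCat.of k)), y ≫ u = x ≫ u ≫ cj (t ≫ j) ∧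
      Red.gaFn y = Red.gmFn ((toUnit X ≫ t) ≫ Red.chi _ m) * Red.gaFn x

/-- The operator of conjugation on functionals. -/
def conjOp (t : 𝟙_ (Over (Spec (CommRingCat.of k))) ⟶ Red.DS (Spec (CommRingCat.of k)) M) :
    Module.Dual k A →ₗ[k] Module.Dual k A :=
  (comor e (cj (t ≫ j))).toLinearMap.dualMap

theorem exists_weight_vec {m : M} {u : Red.Ga (Spec (CommRingCat.of k)) ⟶ G} (hu : IsWeightHom j m u) :
    ∃ δ : Module.Dual k A, δ ≠ 0 ∧ IsPtDer e δ ∧ ∀ t, conjOp e j t δ = χ t m • δ := by
  obtain ⟨x, hx⟩ := exists_gaFn (S := Spec (CommRingCat.of k)) (X := sp k (TrivSqZeroExt k k))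
    ((val (k := k) (R := TrivSqZeroExt k k)).symm (inr 1))
  have hxv : val (Red.gaFn x) = (inr 1 : TrivSqZeroExt k k) := by rw [hx, RingEquiv.apply_symm_apply]
  have htan : IsTan (x ≫ u) := by
    have h : pt (fstHom k k k) ≫ x = 1 := gaFn_injective ((val (k := k) (R := k)).injective (by
      rw [gaFn_comp, val_comp, hxv, gaFn_one, map_zero]
      simp))
    show pt (fstHom k k k) ≫ x ≫ u = 1
    rw [← Category.assoc, h, hu.one]
  refine ⟨tan e (x ≫ u), fun h => ?_, isPtDer_tan e htan, fun t => ?_⟩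
  · have h1 := eq_one_of_tan_eq_zero e htan h
    haveI := hu.mono
    rw [← hu.one, cancel_mono] at h1
    have h2 := congrArg (fun z => val (Red.gaFn z)) h1
    simp only [hxv, gaFn_one, map_zero] at h2
    exact one_ne_zero (inr_injective (R := k) h2)
  · obtain ⟨y, hy, hyv⟩ := hu.conj t _ x
    set c : k := χ t m
    have hy' : y = pt (TrivSqZeroExt.map (c • LinearMap.id : k →ₗ[k] k)) ≫ x :=
      gaFn_injective ((val (k := k) (R := TrivSqZeroExt k k)).injective (by
        rw [hyv, gmFn_chi, map_mul, gaFn_comp, val_comp, hxv, map_inr,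
          show val (dsFn (toUnit (sp k (TrivSqZeroExt k k)) ≫ t) (Multiplicative.ofAdd m)) = algebraMap k _ c from
            chr_toUnit t m, algebraMap_eq_inl, inl_mul_inr]
        simp))
    calc conjOp e j t (tan e (x ≫ u)) = tan e ((x ≫ u) ≫ cj (t ≫ j)) := (tan_comp e _ _).symm
      _ = tan e (pt (TrivSqZeroExt.map (c • LinearMap.id : k →ₗ[k] k)) ≫ x ≫ u) := by
          rw [Category.assoc, ← hy, hy', Category.assoc]
      _ = c • tan e (x ≫ u) := by rw [tan_map, LinearMap.smul_comp, LinearMap.id_comp]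

/-- The character of an infinitesimal point of a split torus. -/
def linChr {N : Type u} [AddCommGroup N] [Module k N] [Module kᵐᵒᵖ N] [IsCentralScalar k N] (f : M →+ N) :
    Multiplicative M →* TrivSqZeroExt k N where
  toFun m := inl 1 + inr (f m.toAdd)
  map_one' := TrivSqZeroExt.ext (by simp) (by simp)
  map_mul' x y := TrivSqZeroExt.ext (by simp) (by simp [snd_mul]; exact add_comm _ _)

theorem tan_conj [IsMonHom j] (t : 𝟙_ (Over (Spec (CommRingCat.of k))) ⟶ Red.DS (Spec (CommRingCat.of k)) M)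
    (z : sp k (TrivSqZeroExt k k) ⟶ Red.DS (Spec (CommRingCat.of k)) M) :
    conjOp e j t (tan e (z ≫ j)) = tan e (z ≫ j) := by
  refine (tan_comp e _ _).symm.trans (congrArg (tan e) ?_)
  rw [comp_cj, ← Category.assoc, ← MonObj.mul_comp _ _ j, ← GrpObj.inv_comp _ j, ← MonObj.mul_comp _ _ j]
  refine congrArg (· ≫ j) (chr_injective (MonoidHom.ext fun m => ?_))
  rw [chr_mul, chr_mul, mul_comm (chr (toUnit _ ≫ t) m), _root_.mul_assoc, ← chr_mul, mul_inv_cancel, chr_one,
    _root_.mul_one]

theorem isTan_map [IsMonHom j] {N : Type u} [AddCommGroup N] [Module k N] [Module kᵐᵒᵖ N] [IsCentralScalar k N]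
    (f : M →+ N) (q : sp k (TrivSqZeroExt k N) ⟶ Red.DS (Spec (CommRingCat.of k)) M) (hq : chr q = linChr f)
    (L : N →ₗ[k] k) : IsTan ((pt (TrivSqZeroExt.map L) ≫ q) ≫ j) := by
  have hq1 : pt (fstHom k k N) ≫ q = 1 := chr_injective (MonoidHom.ext fun m => by
    rw [chr_comp, hq, chr_one]
    simp [linChr])
  show _ ≫ _ = _
  rw [← Category.assoc, ← Category.assoc, ← CoactBr.pt_comp, fstHom_comp_map, hq1, MonObj.one_comp]

theorem apply_eq_zero [IsMonHom j] [Mono j] {N : Type u} [AddCommGroup N] [Module k N] [Module kᵐᵒᵖ N] [IsCentralScalar k N]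
    (f : M →+ N) (q : sp k (TrivSqZeroExt k N) ⟶ Red.DS (Spec (CommRingCat.of k)) M) (hq : chr q = linChr f)
    (L : N →ₗ[k] k) (h0 : tan e ((pt (TrivSqZeroExt.map L) ≫ q) ≫ j) = 0) (m : M) : L (f m) = 0 := by
  have h1 := eq_one_of_tan_eq_zero e (isTan_map j f q hq L) h0
  rw [← MonObj.one_comp j, cancel_mono] at h1
  have h2 := DFunLike.congr_fun (congrArg chr h1) (Multiplicative.ofAdd m)
  rw [chr_comp, hq, chr_one] at h2
  have h3 := congrArg TrivSqZeroExt.snd h2
  simpa [linChr] using h3

theorem exists_tan_family [IsMonHom j] [Mono j] {r : ℕ} (b : Module.Basis (Fin r) ℤ M) :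
    ∃ ψ : Fin r → Module.Dual k A, (∀ i, IsPtDer e (ψ i) ∧ ∀ t, conjOp e j t (ψ i) = ψ i) ∧
      LinearIndependent k ψ := by
  let f : M →+ (Fin r → k) :=
    { toFun := fun m i => ((b.coord i m : ℤ) : k)
      map_zero' := by ext; simp
      map_add' := fun x y => by ext; simp }
  obtain ⟨q, hq⟩ := exists_chr (k := k) (R := TrivSqZeroExt k (Fin r → k)) (linChr (N := Fin r → k) f)
  refine ⟨fun i => tan e ((pt (TrivSqZeroExt.map (LinearMap.proj i : (Fin r → k) →ₗ[k] k)) ≫ q) ≫ j),
    fun i => ⟨isPtDer_tan e (isTan_map j f q hq _), fun t => tan_conj e j t _⟩, ?_⟩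
  rw [Fintype.linearIndependent_iff]
  intro c hc i
  let L : (Fin r → k) →ₗ[k] k := ∑ i, c i • LinearMap.proj i
  have h0 : tan e ((pt (TrivSqZeroExt.map L) ≫ q) ≫ j) = 0 := by
    rw [Category.assoc, tan_map, ← hc]
    refine LinearMap.ext fun a => ?_
    simp [L, tan_map, Category.assoc, LinearMap.sum_apply]
  have h3 := apply_eq_zero e j f q hq L h0 (b i)
  simpa [f, L, Finsupp.single_apply, LinearMap.sum_apply] using h3

/-- All weights of the torus on tangent vectors are among the given ones when these exhaust the dimension. -/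
theorem mem_range_of_weight [IsAlgClosed k] [IsMonHom j] [Mono j] [Module.Free ℤ M] [Module.Finite ℤ M]
    {J : Type} [Fintype J] (rt : J ↪ M) (hrt0 : ∀ a, rt a ≠ 0) (u : J → (Red.Ga (Spec (CommRingCat.of k)) ⟶ G))
    (hu : ∀ a, IsWeightHom j (rt a) (u a))
    [Module.Finite k (RingHom.ker (ev e 1)).Cotangent]
    (hdim : Module.finrank k (RingHom.ker (ev e 1)).Cotangent ≤ Module.finrank ℤ M + Fintype.card J)
    {m : M} (hm : m ≠ 0) {v : Red.Ga (Spec (CommRingCat.of k)) ⟶ G} (hv : IsWeightHom j m v) :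
    m ∈ Set.range rt := by
  classical
  by_contra hmem
  let r := Module.finrank ℤ M
  obtain ⟨ψ, hψ, hψli⟩ := exists_tan_family e j (Module.finBasis ℤ M)
  choose δ hδ0 hδd hδw using fun a => exists_weight_vec e j (hu a)
  obtain ⟨δ', hδ'0, hδ'd, hδ'w⟩ := exists_weight_vec e j hv
  let fam : (J ⊕ Unit) ⊕ Fin r → Module.Dual k A := Sum.elim (Sum.elim δ fun _ => δ') ψ
  have hder : ∀ i, IsPtDer e (fam i) := by
    rintro ((a | a) | i)
    exacts [hδd a, hδ'd, (hψ i).1]
  suffices hli : LinearIndependent k fam by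
    have h := (card_le_finrank e fam hder hli).trans hdim
    simp [r] at h
    omega
  rw [Fintype.linearIndependent_iff]
  intro c hc
  simp only [Fintype.sum_sum_type, fam, Sum.elim_inl, Sum.elim_inr, Finset.univ_unique, Finset.sum_singleton] at hc
  let lab : Option (J ⊕ Unit) → M := fun o => o.elim 0 (Sum.elim rt fun _ => m)
  let w : Option (J ⊕ Unit) → Module.Dual k A := fun o =>
    o.elim (∑ i, c (Sum.inr i) • ψ i) fun a => c (Sum.inl a) • fam (Sum.inl a)
  have hlab : Function.Injective lab := by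
    rintro (_ | a | a) (_ | b | b) h <;> simp [lab] at h ⊢
    · exact hrt0 b h.symm
    · exact hm h.symm
    · exact hrt0 a h
    · exact h
    · exact hmem ⟨a, h⟩
    · exact hm h
    · exact hmem ⟨b, h.symm⟩
  have key := eq_zero_of_sum_eq_zero (conjOp e j) (fun o t => χ t (lab o)) Finset.univ (fun x _ y _ hxy =>
      hlab (χ_injective fun t => congrFun hxy t)) w (fun o _ t => by
      rcases o with _ | a | a
      · have h1 : χ t (0 : M) = 1 := map_one _
        simp only [w, lab, Option.elim, h1, _root_.one_smul, map_sum, map_smul, (hψ _).2 t]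
      · simp only [w, lab, fam, Option.elim, Sum.elim_inl, map_smul, hδw a t, smul_comm (c _)]
      · simp only [w, lab, fam, Option.elim, Sum.elim_inl, Sum.elim_inr, map_smul, hδ'w t, smul_comm (c _)]) (by
      rw [Fintype.sum_option, Fintype.sum_sum_type]
      simp only [w, fam, Option.elim, Sum.elim_inl, Sum.elim_inr, Finset.univ_unique, Finset.sum_singleton]
      rw [← hc]
      abel)
  rintro ((a | a) | i)
  · exact (smul_eq_zero.1 (key (some (Sum.inl a)) (Finset.mem_univ _))).resolve_right (hδ0 a)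
  · exact (smul_eq_zero.1 (key (some (Sum.inr a)) (Finset.mem_univ _))).resolve_right hδ'0
  · exact (Fintype.linearIndependent_iff.1 hψli _ (key none (Finset.mem_univ _))) i

end Groth.Agent.SplitUniq26
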